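import Cfsg.Agent.H32.ThRep.P2.Check
import Cfsg.Agent.H32.ThRep.P3.Check
import Cfsg.Agent.H32.ThRep.P5.Check
import Cfsg.Agent.H32.ThRep.P7.Check
import Cfsg.Agent.H32.ThRep.P13.Check
import Cfsg.Agent.H32.ThRep.P19.Check
import Cfsg.Agent.H32.ThRep.P31.Check

/-!
The order of the image of the presented Thompson group in dimension 248, and what follows from
upper bounds on the presented group.
-/

set_option autoImplicit false

namespace Cfsg.Agent.H32.ThRep

open Cfsg.Spor

theorem mul_dvd {a b n : ℕ} (h : Nat.gcd a b = 1) (ha : a ∣ n) (hb : b ∣ n) : a * b ∣ n :=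
  Nat.Coprime.mul_dvd_of_dvd_of_dvd h ha hb

/-- The order of the Thompson group divides the order of the image. -/
theorem dvd_card_range : 90745943887872000 ∣ Nat.card rep248.range := by
  rw [show (90745943887872000 : ℕ) = 2 ^ 15 * 3 ^ 10 * 5 ^ 3 * 7 ^ 2 * (13 ^ 1) * (19 ^ 1) * (31 ^ 1)
    by norm_num]
  exact mul_dvd (by norm_num) (mul_dvd (by norm_num) (mul_dvd (by norm_num) (mul_dvd (by norm_num)
    (mul_dvd (by norm_num) (mul_dvd (by norm_num) P2.dvd_range P3.dvd_range) P5.dvd_range)
    P7.dvd_range) P13.dvd_range) P19.dvd_range) P31.dvd_range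

theorem card_eq (hfin : Finite Th) (hle : Nat.card Th ≤ 90745943887872000) :
    Nat.card Th = 90745943887872000 ∧ Function.Injective rep248 := by
  have := hfin
  have h1 : 90745943887872000 ≤ Nat.card rep248.range :=
    Nat.le_of_dvd Nat.card_pos dvd_card_range
  have h2 : Nat.card rep248.range ≤ Nat.card Th :=
    Nat.card_le_card_of_surjective _ rep248.rangeRestrict_surjective
  have h3 : Nat.card Th = 90745943887872000 := le_antisymm hle (h1.trans h2)
  refine ⟨h3, ?_⟩
  have hb : Function.Bijective rep248.rangeRestrict :=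
    (Nat.bijective_iff_surjective_and_card _).2
      ⟨rep248.rangeRestrict_surjective, le_antisymm (h3.le.trans h1) h2⟩
  intro x y h
  exact hb.1 (Subtype.ext h)

theorem card_range_eq (hfin : Finite Th) (hle : Nat.card Th ≤ 90745943887872000) :
    Nat.card rep248.range = 90745943887872000 := by
  rw [← Nat.card_congr (MonoidHom.ofInjective (card_eq hfin hle).2).toEquiv,
    (card_eq hfin hle).1]

theorem card_and_index {H : Subgroup Th} (hfin : Finite Th)
    (hle : Nat.card Th ≤ 90745943887872000) (hH : Nat.card H ≤ 634023936)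
    (hi : H.index ≤ 143127000) : Nat.card H = 634023936 ∧ H.index = 143127000 := by
  have h := Subgroup.card_mul_index H
  rw [(card_eq hfin hle).1] at h
  constructor
  · refine le_antisymm hH ?_
    by_contra hlt
    have : Nat.card H * H.index ≤ 634023935 * 143127000 := Nat.mul_le_mul (by omega) hi
    omega
  · refine le_antisymm hi ?_
    by_contra hlt
    have : Nat.card H * H.index ≤ 634023936 * 143126999 := Nat.mul_le_mul hH (by omega)
    omega

end Cfsg.Agent.H32.ThRep
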