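import Mathlib

/-!
A lower bound `p ^ k` dividing the order of a finite group from a chain certificate read off in a
small corner of a monoid representation: `B` spans an invariant block, `R` is a right inverse on it,
and every step is separated from the previous ones by a fixed vector.
-/

set_option autoImplicit false

namespace Cfsg.Agent.H32.ThRep.Chain

variable {Γ M : Type*} [Group Γ] [Finite Γ] [Monoid M] (ι : Γ →* M) (B R : M)

/-- The corner image. -/
def f (x : Γ) : M := B * ι x * R

/-- Elements leaving the block invariant. -/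
def Inv (x : Γ) : Prop := B * ι x = f ι B R x * B

variable {ι B R}

omit [Finite Γ] in
theorem Inv.f_mul {x : Γ} (hx : Inv ι B R x) (y : Γ) :
    f ι B R (x * y) = f ι B R x * f ι B R y := by
  unfold Inv at hx
  show B * ι (x * y) * R = _
  rw [map_mul, ← mul_assoc B, hx]
  simp only [f, mul_assoc]

omit [Finite Γ] in
theorem Inv.mul {x y : Γ} (hx : Inv ι B R x) (hy : Inv ι B R y) : Inv ι B R (x * y) := by
  have e := hx.f_mul y
  unfold Inv at *
  rw [e, map_mul, ← mul_assoc B, hx, mul_assoc, hy, ← mul_assoc]

theorem inv_of_closed {P : Γ → Prop} (h1 : P 1) (hm : ∀ {x y}, P x → P y → P (x * y))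
    {x : Γ} (hx : P x) : P x⁻¹ := by
  have hpow : ∀ n : ℕ, P (x ^ n) := by
    intro n
    induction n with
    | zero => simpa using h1
    | succ n ih => rw [pow_succ]; exact hm ih hx
  have he : x⁻¹ = x ^ (orderOf x - 1) := by
    apply inv_eq_of_mul_eq_one_right
    rw [← pow_succ', Nat.sub_add_cancel (orderOf_pos x), pow_orderOf_eq_one]
  exact he ▸ hpow _

variable (ι B R) in
/-- The subgroup preserving the block. -/
def blockGroup (hBR : B * R * B = B) : Subgroup Γ where
  carrier := {x | Inv ι B R x}
  one_mem' := by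
    show B * ι 1 = B * ι 1 * R * B
    rw [map_one, mul_one, hBR]
  mul_mem' := fun {_ _} hx hy => hx.mul hy
  inv_mem' := fun {x} hx => inv_of_closed (P := Inv ι B R)
    (show B * ι 1 = B * ι 1 * R * B by rw [map_one, mul_one, hBR]) (fun {_ _} => Inv.mul) hx

variable {hBR : B * R * B = B}

omit [Finite Γ] in
theorem f_one : f ι B R 1 = B * R := by rw [f, map_one, mul_one]

theorem idem (hBR : B * R * B = B) : B * R * (B * R) = B * R := by rw [← mul_assoc, hBR]

theorem f_prod (hBR : B * R * B = B) {κ : Type*} (g : κ → Γ) (hg : ∀ k, Inv ι B R (g k)) :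
    ∀ (l : List κ), (B * R) * (l.map fun k => f ι B R (g k)).prod = f ι B R (l.map g).prod
  | [] => by simp [f_one]
  | k :: l => by
    rw [List.map_cons, List.prod_cons, List.map_cons, List.prod_cons, (hg k).f_mul,
      ← f_prod hBR g hg l]
    have h : ∀ x, Inv ι B R x → (B * R) * f ι B R x = f ι B R x * (B * R) := by
      intro x hx
      have h1 := hx.f_mul 1
      have h2 : f ι B R (1 * x) = f ι B R 1 * f ι B R x := by
        have h0 : Inv ι B R 1 := (blockGroup ι B R hBR).one_mem
        exact h0.f_mul x
      rw [mul_one, f_one] at h1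
      rw [one_mul, f_one] at h2
      rw [← h1, ← h2]
    rw [← mul_assoc, h _ (hg k), mul_assoc]

variable (ι B R hBR) in
/-- The kernel of the corner map. -/
def ker : Subgroup (blockGroup ι B R hBR) where
  carrier := {x | f ι B R x = B * R}
  one_mem' := f_one
  mul_mem' := fun {x y} hx hy => by
    show f ι B R ((x : Γ) * y) = _
    rw [x.2.f_mul, hx, hy, idem hBR]
  inv_mem' := fun {x} hx => inv_of_closed (P := fun z : blockGroup ι B R hBR => f ι B R z = B * R)
    f_one (fun {x y} hx hy => by
      show f ι B R ((x : Γ) * y) = _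
      rw [x.2.f_mul, hx, hy, idem hBR]) hx

theorem mem_ker_of_eq {x y : blockGroup ι B R hBR} (h : f ι B R x = f ι B R y) :
    x⁻¹ * y ∈ ker ι B R hBR := by
  show f ι B R ((x : Γ)⁻¹ * y) = _
  have hxi : Inv ι B R (x : Γ)⁻¹ := (x⁻¹).2
  rw [hxi.f_mul, ← h, ← hxi.f_mul, inv_mul_cancel, f_one]

variable (ι B R hBR) in
/-- Elements whose corner image satisfies a multiplicatively closed predicate. -/
def fixer (P : M → Prop) (h1 : P (B * R)) (hm : ∀ {X Y}, P X → P Y → P (X * Y)) :
    Subgroup (blockGroup ι B R hBR) where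
  carrier := {x | P (f ι B R x)}
  one_mem' := show P (f ι B R 1) by rw [f_one]; exact h1
  mul_mem' := fun {x y} hx hy => by
    show P (f ι B R ((x : Γ) * y))
    rw [x.2.f_mul]
    exact hm hx hy
  inv_mem' := fun {x} hx => inv_of_closed (P := fun z : blockGroup ι B R hBR => P (f ι B R z))
    (show P (f ι B R 1) by rw [f_one]; exact h1) (fun {x y} hx hy => by
      show P (f ι B R ((x : Γ) * y))
      rw [x.2.f_mul]
      exact hm hx hy) hx

theorem step {G : Type*} [Group G] [Finite G] {p : ℕ} (hp : p.Prime) (K : Subgroup G) (g : G)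
    (hn : ∀ x ∈ K, g⁻¹ * x * g ∈ K) (hpow : g ^ p ∈ K) (hg : g ∉ K) :
    p * Nat.card K ∣ Nat.card (K ⊔ Subgroup.zpowers g : Subgroup G) := by
  have hgn : g ∈ Subgroup.normalizer (K : Set G) := by
    have hinv : ∀ x ∈ K, g * x * g⁻¹ ∈ K := by
      have h1 : ∀ (n : ℕ) (x : G), x ∈ K → (g ^ n)⁻¹ * x * g ^ n ∈ K := by
        intro n
        induction n with
        | zero => intro x hx; simpa using hx
        | succ n ih =>
          intro x hx
          have := hn _ (ih x hx)
          simpa [pow_succ, mul_assoc] using this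
      intro x hx
      have he : g⁻¹ = g ^ (orderOf g - 1) := by
        apply inv_eq_of_mul_eq_one_right
        rw [← pow_succ', Nat.sub_add_cancel (orderOf_pos g), pow_orderOf_eq_one]
      have := h1 (orderOf g - 1) x hx
      rw [← he, inv_inv] at this
      exact this
    rw [Subgroup.mem_normalizer_iff]
    intro x
    refine ⟨hinv x, fun hx => ?_⟩
    have := hn _ hx
    simpa [mul_assoc] using this
  set L := K ⊔ Subgroup.zpowers g
  have hKL : K ≤ L := le_sup_left
  have hL : L ≤ Subgroup.normalizer (K : Set G) :=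
    sup_le Subgroup.le_normalizer (Subgroup.zpowers_le.2 hgn)
  have : (K.subgroupOf L).Normal := (Subgroup.normal_subgroupOf_iff_le_normalizer hKL).2 hL
  let q : L ⧸ K.subgroupOf L :=
    QuotientGroup.mk ⟨g, Subgroup.mem_sup_right (Subgroup.mem_zpowers g)⟩
  have := Fact.mk hp
  have ho : orderOf q = p := by
    apply orderOf_eq_prime
    · rw [← QuotientGroup.mk_pow, QuotientGroup.eq_one_iff]
      simpa [Subgroup.mem_subgroupOf] using hpow
    · rw [Ne, QuotientGroup.eq_one_iff]
      simpa [Subgroup.mem_subgroupOf] using hg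
  have h1 : p ∣ Nat.card (L ⧸ K.subgroupOf L) := ho ▸ orderOf_dvd_natCard q
  rw [Subgroup.card_eq_card_quotient_mul_card_subgroup (K.subgroupOf L),
    Nat.card_congr (Subgroup.subgroupOfEquivOfLe hKL).toEquiv]
  exact Nat.mul_dvd_mul_right h1 _

/-- The certificate gives `p ^ (k + m)` dividing the order, `p ^ m` coming from the kernel. -/
theorem dvd_card (hBR : B * R * B = B) {p : ℕ} (hp : p.Prime) {k : ℕ} (g : Fin k → Γ)
    (A : Fin k → M)
    (hinv : ∀ i, B * ι (g i) = A i * B) (hA : ∀ i, A i * B * R = A i)
    (hrel : ∀ i j : Fin k, j < i → ∃ l : List (Fin k), (∀ m ∈ l, m < i) ∧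
      A j * A i = A i * (l.map A).prod)
    (hpow : ∀ i : Fin k, ∃ l : List (Fin k), (∀ m ∈ l, m < i) ∧
      (B * R) * (List.replicate p (A i)).prod = (B * R) * (l.map A).prod)
    (hsep : ∀ i : Fin k, ∃ P : M → Prop, P (B * R) ∧ (∀ {X Y}, P X → P Y → P (X * Y)) ∧
      (∀ j, j < i → P (A j)) ∧ ¬ P (A i))
    {m : ℕ} (hm : ∀ G : Subgroup Γ, (∀ x, B * ι x = B → x ∈ G) → p ^ m ∣ Nat.card G) :
    p ^ (k + m) ∣ Nat.card Γ := by
  have hf : ∀ i, f ι B R (g i) = A i := fun i => by rw [f, hinv, hA]
  have hi : ∀ i, Inv ι B R (g i) := fun i => by unfold Inv; rw [hf]; exact hinv i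
  let G := blockGroup ι B R hBR
  let G' : Fin k → G := fun i => ⟨g i, hi i⟩
  let N := ker ι B R hBR
  let K : ℕ → Subgroup G := fun n => Subgroup.closure (G' '' {j | j.val < n}) ⊔ N
  have hmem : ∀ {n : ℕ} (l : List (Fin k)), (∀ m ∈ l, m.val < n) → (l.map G').prod ∈ K n := by
    intro n l hl
    refine Subgroup.list_prod_mem _ fun x hx => ?_
    obtain ⟨m, hm, rfl⟩ := List.mem_map.1 hx
    exact Subgroup.mem_sup_left (Subgroup.subset_closure ⟨m, hl m hm, rfl⟩)
  have hfl : ∀ l : List (Fin k), f ι B R ((l.map G').prod : G) = B * R * (l.map A).prod := by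
    intro l
    have := f_prod hBR g hi l
    simp only [hf] at this
    rw [this, Subgroup.val_list_prod, List.map_map]
    rfl
  have hB1 : ∀ z : G, f ι B R (z : Γ) * (B * R) = f ι B R (z : Γ) := by
    intro z
    have := z.2.f_mul 1
    rw [mul_one, f_one] at this
    exact this.symm
  have key : ∀ n, n ≤ k → p ^ (n + m) ∣ Nat.card (K n) := by
    intro n
    induction n with
    | zero =>
      intro _
      rw [zero_add]
      refine dvd_trans ?_ (Subgroup.card_dvd_of_le (le_sup_right : N ≤ K 0))
      rw [Nat.card_congr (Subgroup.equivMapOfInjective N G.subtype Subtype.coe_injective).toEquiv]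
      refine hm _ fun x hx => ?_
      have hxi : Inv ι B R x := by
        show B * ι x = B * ι x * R * B
        rw [hx, hBR]
      exact ⟨⟨x, hxi⟩, show f ι B R x = B * R by rw [f, hx], rfl⟩
    | succ n ih =>
      intro hn
      let i : Fin k := ⟨n, hn⟩
      have hnorm : ∀ x ∈ K n, (G' i)⁻¹ * x * G' i ∈ K n := by
        intro x hx
        have hle : K n ≤ (K n).comap (MulAut.conj (G' i)⁻¹).toMonoidHom := by
          refine sup_le ((Subgroup.closure_le _).2 ?_) ?_
          · rintro _ ⟨j, hj, rfl⟩
            obtain ⟨l, hl, he⟩ := hrel i j hj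
            have hker : (G' i * (l.map G').prod)⁻¹ * (G' j * G' i) ∈ N := by
              refine mem_ker_of_eq ?_
              show f ι B R (g i * ((l.map G').prod : G)) = f ι B R (g j * g i)
              rw [(hi i).f_mul, (hi j).f_mul, hf, hf, hfl, he, ← mul_assoc, ← mul_assoc, hA]
            have := mul_mem (hmem l (n := n) fun m hm => hl m hm) (Subgroup.mem_sup_right hker)
            simpa [Subgroup.mem_comap, MulAut.conj_apply, mul_assoc] using this
          · intro y hy
            refine Subgroup.mem_sup_right ?_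
            show f ι B R ((((G' i)⁻¹ : G) : Γ) * y * (((G' i)⁻¹ : G) : Γ)⁻¹) = B * R
            rw [(((G' i)⁻¹).2.mul y.2).f_mul, ((G' i)⁻¹).2.f_mul, hy, hB1,
              ← ((G' i)⁻¹).2.f_mul, mul_inv_cancel, f_one]
        have := hle hx
        simpa [MulAut.conj_apply] using this
      have hp' : G' i ^ p ∈ K n := by
        obtain ⟨l, hl, he⟩ := hpow i
        have hr : ((List.replicate p i).map G').prod = G' i ^ p := by
          rw [List.map_replicate, List.prod_replicate]
        have hker : ((l.map G').prod)⁻¹ * G' i ^ p ∈ N := by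
          refine mem_ker_of_eq ?_
          rw [← hr, hfl, hfl, List.map_replicate, he]
        simpa using mul_mem (hmem l (n := n) fun m hm => hl m hm) (Subgroup.mem_sup_right hker)
      have hout : G' i ∉ K n := by
        intro h
        obtain ⟨P, h1, hmul, hj, hi'⟩ := hsep i
        have hle : K n ≤ fixer ι B R hBR P h1 hmul := by
          refine sup_le ((Subgroup.closure_le _).2 ?_) ?_
          · rintro _ ⟨j, hjn, rfl⟩
            show P (f ι B R (g j))
            rw [hf]
            exact hj j hjn
          · intro y (hy : f ι B R y = B * R)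
            show P (f ι B R y)
            rw [hy]
            exact h1
        have : P (f ι B R (g i)) := hle h
        rw [hf] at this
        exact hi' this
      have hst := step hp (K n) (G' i) hnorm hp' hout
      have hsub : K n ⊔ Subgroup.zpowers (G' i) ≤ K (n + 1) := by
        refine sup_le (sup_le_sup_right (Subgroup.closure_mono
          (Set.image_mono fun j hj => Nat.lt_succ_of_lt hj)) N) ?_
        exact Subgroup.zpowers_le.2
          (Subgroup.mem_sup_left (Subgroup.subset_closure ⟨i, Nat.lt_succ_self n, rfl⟩))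
      refine dvd_trans ?_ (Subgroup.card_dvd_of_le hsub)
      refine dvd_trans ?_ hst
      rw [Nat.add_right_comm, pow_succ']
      exact Nat.mul_dvd_mul_left _ (ih (Nat.le_of_succ_le hn))
  exact (key k le_rfl).trans ((Subgroup.card_subgroup_dvd_card _).trans
    (Subgroup.card_subgroup_dvd_card _))

end Cfsg.Agent.H32.ThRep.Chain
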