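import Cfsg.Agent.H32.ThRep.Rep
import Cfsg.Agent.H32.ThRep.Chain

/-!
Kernel-checkable chain certificates for prime powers dividing the order of the image of the
presented Thompson group in dimension 248.
-/

set_option autoImplicit false

namespace Cfsg.Agent.H32.ThRep

open Cfsg.Spor

/-- A chain certificate of length `k`. -/
structure Cert (k : ℕ) where
  p : ℕ
  B : ℕ
  R : ℕ
  w : Fin k → List (Th.Gen × Bool)
  A : Fin k → ℕ
  c : Fin k → ℕ
  cR : Fin k → ℕ
  exact_fix : Fin k → Bool
  row : Fin k → Fin 248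
  m : ℕ
  z : List (Th.Gen × Bool)
  zr : Fin 248
  col : Fin k → Fin 248
  rel : Fin k → List (List (Fin k))
  pw : Fin k → List (Fin k)

namespace Cert

variable {k : ℕ} (C : Cert k)

def E : ℕ := mulV C.B C.R

def baseOK : Bool :=
  okMat 248 C.B && okMat 248 C.R && okMat 248 C.E && chk 248 [C.R] C.B C.E &&
    chk 248 [C.B] C.E C.B

def wordOK (i : Fin k) : Bool :=
  force (mulV (C.A i) C.B) fun AB =>
    okMat 248 (C.A i) && okMat 248 AB && chk 248 [C.B] (C.A i) AB &&
      chk 248 ((C.w i).map lm) C.B AB && chk 248 [C.R] AB (C.A i)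

def relOne (i j : Fin k) : Bool :=
  force (mulV (C.A j) (C.A i)) fun P =>
    let l := (C.rel i).getD j.val []
    (l.all fun m => Nat.blt m.val i.val) && chk 248 [C.A i] (C.A j) P &&
      chk 248 (l.map C.A) (C.A i) P

def relOK (i : Fin k) : Bool :=
  (List.finRange k).all fun j => !Nat.blt j.val i.val || C.relOne i j

def powOK (i : Fin k) : Bool :=
  force ((List.replicate C.p (C.A i)).foldl mulV C.E) fun P =>
    ((C.pw i).all fun m => Nat.blt m.val i.val) &&
      chk 248 (List.replicate C.p (C.A i)) C.E P && chk 248 ((C.pw i).map C.A) C.E P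

/-- The block of `c` is stable under `A j`, with the scalar part trivial in the exact case. -/
def stabOne (i : Fin k) (X : ℕ) : Bool :=
  force (mulV (C.c i) X) fun cX =>
    chk 248 [X] (C.c i) cX &&
      (if C.exact_fix i then Nat.beq cX (C.c i)
       else force (mulV cX (C.cR i)) fun D =>
        okMat 248 cX && okMat 248 D && chk 248 [C.c i] D cX)

def sepOK (i : Fin k) : Bool :=
  force (mulV (C.c i) (C.cR i)) fun Q => force (mulV (C.c i) (C.A i)) fun cX =>
    force (mulV cX (C.cR i)) fun D0 => force (mulV D0 (C.c i)) fun D =>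
    okMat 248 (C.c i) && okMat 248 (C.cR i) && okMat 248 Q && okMat 248 cX && okMat 248 D0 &&
      okMat 248 D &&
      chk 248 [C.cR i] (C.c i) Q && chk 248 [C.c i] Q (C.c i) &&
      chk 248 [C.A i] (C.c i) cX && chk 248 [C.cR i] cX D0 && chk 248 [C.c i] D0 D &&
      C.stabOne i C.E &&
      ((List.finRange k).all fun j => !Nat.blt j.val i.val || C.stabOne i (C.A j)) &&
      !Nat.beq (ent 248 cX (C.row i) (C.col i) % 3)
        (ent 248 (if C.exact_fix i then C.c i else D) (C.row i) (C.col i) % 3)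

def kerOK : Bool :=
  match C.m with
  | 0 => true
  | 1 =>
    force (((C.z.map lm)).foldl mulV (idN 248)) fun Z =>
      okMat 248 Z && chk 248 (C.z.map lm) (idN 248) Z && chk 248 [Z] C.B C.B &&
        chk 248 (List.replicate C.p Z) (idN 248) (idN 248) && !Nat.beq (ent 248 Z C.zr C.zr % 3) 1
  | _ => false

end Cert

attribute [local irreducible] mA mB mC mD mE mS mT mU mSi mTi mUi chk okMat idN mulV

theorem okMat_lm' : ∀ {w : List (Th.Gen × Bool)}, ∀ X ∈ w.map lm, okMat 248 X = true := by
  intro w X hX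
  obtain ⟨l, -, rfl⟩ := List.mem_map.1 hX
  exact okMat_lm l

theorem chk_one {n X acc out : ℕ} (hn : 9 * n < 4096) (hX : okMat n X = true)
    (ha : okMat n acc = true) (h : chk n [X] acc out = true) :
    mat n out = mat n acc * mat n X := by
  have := chk_sound hn (w := [X]) (by simpa using hX) ha h
  simpa using this.symm

/-- The image element of a word. -/
def elt (w : List (Th.Gen × Bool)) : rep248.range :=
  ⟨(rep248 (PresentedGroup.mk _ (FreeGroup.mk w))), ⟨_, rfl⟩⟩

/-- The matrix representation of the image. -/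
def iota : rep248.range →* Matrix (Fin 248) (Fin 248) (ZMod 3) :=
  (Units.coeHom _).comp (Subgroup.subtype _)

theorem iota_elt (w : List (Th.Gen × Bool)) :
    iota (elt w) = ((w.map lm).map (mat 248)).prod := by
  show Units.coeHom _ (FreeGroup.lift gen (FreeGroup.mk w)) = _
  rw [FreeGroup.lift_mk, map_list_prod, List.map_map, List.map_map]
  congr 1
  exact List.map_congr_left fun l _ => val_letter l

theorem Cert.stabOne_sound {k : ℕ} (C : Cert k) {i : Fin k} {X : ℕ} (hX : okMat 248 X = true)
    (hc : okMat 248 (C.c i) = true) (h : C.stabOne i X = true) :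
    if C.exact_fix i then mat 248 (C.c i) * mat 248 X = mat 248 (C.c i)
    else ∃ D, mat 248 (C.c i) * mat 248 X = D * mat 248 (C.c i) := by
  have h9 : 9 * 248 < 4096 := by norm_num
  simp only [Cert.stabOne, force_eq, Bool.and_eq_true] at h
  obtain ⟨h1, h2⟩ := h
  cases hflag : C.exact_fix i
  · simp only [hflag, Bool.false_eq_true, if_false, Bool.and_eq_true] at h2 ⊢
    obtain ⟨⟨hcX, hD⟩, h3⟩ := h2
    exact ⟨_, by rw [← chk_one h9 hX hc h1, chk_one h9 hc hD h3]⟩
  · simp only [hflag, if_true, Nat.beq_eq] at h2 ⊢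
    rw [← chk_one h9 hX hc h1, h2]

theorem Cert.dvd_range {k : ℕ} (C : Cert k) (hp : C.p.Prime) (hb : C.baseOK = true)
    (hw : ∀ i, C.wordOK i = true) (hr : ∀ i, C.relOK i = true) (hq : ∀ i, C.powOK i = true)
    (hs : ∀ i, C.sepOK i = true) (hk : C.kerOK = true) :
    C.p ^ (k + C.m) ∣ Nat.card rep248.range := by
  simp only [Cert.baseOK, Bool.and_eq_true] at hb
  obtain ⟨⟨⟨⟨hB, hR⟩, hE⟩, hBR⟩, hEB⟩ := hb
  have h9 : 9 * 248 < 4096 := by norm_num
  have eE : mat 248 C.E = mat 248 C.B * mat 248 C.R := chk_one h9 hR hB hBR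
  have hA : ∀ i, okMat 248 (C.A i) = true := fun i => by
    have := hw i
    simp only [Cert.wordOK, force_eq, Bool.and_eq_true] at this
    exact this.1.1.1.1
  have hAl : ∀ l : List (Fin k), ∀ X ∈ l.map C.A, okMat 248 X = true := by
    intro l X hX
    obtain ⟨i, -, rfl⟩ := List.mem_map.1 hX
    exact hA i
  refine Chain.dvd_card (ι := iota) (B := mat 248 C.B) (R := mat 248 C.R) ?_ hp (fun i => elt (C.w i))
    (fun i => mat 248 (C.A i)) ?_ ?_ ?_ ?_ ?_ ?_
  · rw [← eE, ← chk_one h9 hB hE hEB]
  · intro i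
    have h := hw i
    simp only [Cert.wordOK, force_eq, Bool.and_eq_true] at h
    obtain ⟨⟨⟨⟨h1, h2⟩, h3⟩, h4⟩, h5⟩ := h
    rw [iota_elt, ← chk_one h9 hB h1 h3]
    exact chk_sound h9 okMat_lm' hB h4
  · intro i
    have h := hw i
    simp only [Cert.wordOK, force_eq, Bool.and_eq_true] at h
    obtain ⟨⟨⟨⟨h1, h2⟩, h3⟩, h4⟩, h5⟩ := h
    rw [← chk_one h9 hB h1 h3, ← chk_one h9 hR h2 h5]
  · intro i j hj
    have h := hr i
    simp only [Cert.relOK, List.all_eq_true] at h
    have h2 := h j (List.mem_finRange j)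
    have hji : Nat.blt j.val i.val = true := by simpa [Nat.blt_eq] using hj
    simp only [hji, Bool.not_true, Bool.false_or, Cert.relOne, force_eq, Bool.and_eq_true,
      List.all_eq_true, Nat.blt_eq] at h2
    obtain ⟨⟨hl, h3⟩, h4⟩ := h2
    refine ⟨(C.rel i).getD j.val [], fun m hm => hl m hm, ?_⟩
    rw [← chk_one h9 (hA i) (hA j) h3, ← chk_sound h9 (hAl _) (hA i) h4, List.map_map]
    rfl
  · intro i
    have h := hq i
    simp only [Cert.powOK, force_eq, Bool.and_eq_true, List.all_eq_true, Nat.blt_eq] at h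
    obtain ⟨⟨hl, h3⟩, h4⟩ := h
    refine ⟨C.pw i, fun m hm => hl m hm, ?_⟩
    have e3 := chk_sound h9 (fun X hX => by rw [List.eq_of_mem_replicate hX]; exact hA i) hE h3
    have e4 := chk_sound h9 (hAl _) hE h4
    rw [← e4, eE, List.map_replicate, List.map_map] at e3
    exact e3
  · intro i
    have h := hs i
    simp only [Cert.sepOK, force_eq, Bool.and_eq_true, List.all_eq_true, Bool.not_eq_true'] at h
    obtain ⟨⟨⟨⟨⟨⟨⟨⟨⟨⟨⟨⟨⟨hc, hcR⟩, hQ⟩, hcX⟩, hD0⟩, hD⟩, eQ⟩, ec⟩, eX⟩, eD0⟩, eD⟩, h1⟩, hj⟩,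
      hne⟩ := h
    refine ⟨fun X => if C.exact_fix i then mat 248 (C.c i) * X = mat 248 (C.c i)
      else ∃ D, mat 248 (C.c i) * X = D * mat 248 (C.c i), ?_, ?_, ?_, ?_⟩
    · rw [← eE]
      exact C.stabOne_sound hE hc h1
    · intro X Y hX hY
      cases hflag : C.exact_fix i
      · simp only [hflag, Bool.false_eq_true, if_false] at hX hY ⊢
        obtain ⟨D1, e1⟩ := hX
        obtain ⟨D2, e2⟩ := hY
        exact ⟨D1 * D2, by rw [← mul_assoc, e1, mul_assoc, e2, ← mul_assoc]⟩
      · simp only [hflag, if_true] at hX hY ⊢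
        rw [← mul_assoc, hX, hY]
    · intro j hji
      have hb : Nat.blt j.val i.val = true := by simpa [Nat.blt_eq] using hji
      have h2 := hj j (List.mem_finRange j)
      simp only [hb, Bool.not_true, Bool.false_or] at h2
      exact C.stabOne_sound (hA j) hc h2
    · intro he
      have eX' := chk_one h9 (hA i) hc eX
      have key : mat 248 (mulV (C.c i) (C.A i)) = mat 248 (if C.exact_fix i then C.c i
          else mulV (mulV (mulV (C.c i) (C.A i)) (C.cR i)) (C.c i)) := by
        cases hflag : C.exact_fix i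
        · simp only [hflag, Bool.false_eq_true, if_false] at he ⊢
          obtain ⟨Dm, hDm⟩ := he
          rw [chk_one h9 hc hD0 eD, chk_one h9 hcR hcX eD0, eX', hDm, mul_assoc, mul_assoc,
            ← mul_assoc (mat 248 (C.c i)), ← chk_one h9 hcR hc eQ, ← chk_one h9 hc hQ ec]
        · simp only [hflag, if_true] at he ⊢
          rw [eX', he]
      have h0 := congrFun (congrFun key (C.row i)) (C.col i)
      simp only [mat] at h0
      rw [ZMod.natCast_eq_natCast_iff'] at h0
      exact (Bool.eq_false_iff.1 hne) (Nat.beq_eq.mpr h0)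
  · intro G hG
    simp only [Cert.kerOK] at hk
    split at hk
    · rename_i hm0
      rw [hm0, pow_zero]
      exact one_dvd _
    · rename_i hm1
      simp only [force_eq, Bool.and_eq_true, Bool.not_eq_true'] at hk
      obtain ⟨⟨⟨⟨hZ, hz⟩, hzB⟩, hzp⟩, hz1⟩ := hk
      have eZ : iota (elt C.z) = mat 248 ((C.z.map lm).foldl mulV (idN 248)) := by
        rw [iota_elt, ← chk_sound h9 okMat_lm' ok_id hz, mat_idN, one_mul]
      have hmem : elt C.z ∈ G := hG _ (by rw [eZ, ← chk_one h9 hZ hB hzB])
      have hne : (⟨elt C.z, hmem⟩ : G) ≠ 1 := by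
        intro e
        have e' : iota (elt C.z) = 1 := by
          rw [show elt C.z = 1 from congrArg Subtype.val e, map_one]
        rw [eZ] at e'
        have h0 := congrFun (congrFun e' C.zr) C.zr
        simp only [mat, Matrix.one_apply, if_true] at h0
        rw [← Nat.cast_one, ZMod.natCast_eq_natCast_iff'] at h0
        exact (Bool.eq_false_iff.1 hz1) (Nat.beq_eq.mpr h0)
      have hpw : (⟨elt C.z, hmem⟩ : G) ^ C.p = 1 := by
        apply Subtype.ext
        apply Subtype.ext
        apply Units.ext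
        show ((((elt C.z) ^ C.p : rep248.range) : GL (Fin 248) (ZMod 3)) :
          Matrix (Fin 248) (Fin 248) (ZMod 3)) = 1
        have := chk_sound h9 (fun X hX => by rw [List.eq_of_mem_replicate hX]; exact hZ) ok_id hzp
        rw [mat_idN, one_mul, List.map_replicate, List.prod_replicate, ← eZ, ← map_pow] at this
        exact this
      have := Fact.mk hp
      rw [hm1, pow_one, ← orderOf_eq_prime hpw hne]
      exact orderOf_dvd_natCard _
    · simp at hk

end Cfsg.Agent.H32.ThRep
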