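import Cfsg.Agent.H32.ThRep.Table

/-!
Kernel checks: inverses and relators.
-/

set_option autoImplicit false
set_option Elab.async false
set_option maxRecDepth 100000

namespace Cfsg.Agent.H32.ThRep

theorem ok_a : (okMat 248 mA && okMat 248 mB && okMat 248 mC && okMat 248 mD) = true := by
  decide +kernel

theorem ok_b : (okMat 248 mE && okMat 248 mS && okMat 248 mT && okMat 248 mU) = true := by
  decide +kernel

theorem ok_id : okMat 248 (idN 248) = true := by decide +kernel
theorem ok_si : okMat 248 mSi = true := by decide +kernel
theorem ok_ti : okMat 248 mTi = true := by decide +kernel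
theorem ok_ui : okMat 248 mUi = true := by decide +kernel

theorem inv_a : (chk 248 [mA, mA] (idN 248) (idN 248) &&
    chk 248 [mA, mA] (idN 248) (idN 248)) = true := by decide +kernel

theorem inv_b : (chk 248 [mB, mB] (idN 248) (idN 248) &&
    chk 248 [mB, mB] (idN 248) (idN 248)) = true := by decide +kernel

theorem inv_c : (chk 248 [mC, mC] (idN 248) (idN 248) &&
    chk 248 [mC, mC] (idN 248) (idN 248)) = true := by decide +kernel

theorem inv_d : (chk 248 [mD, mD] (idN 248) (idN 248) &&
    chk 248 [mD, mD] (idN 248) (idN 248)) = true := by decide +kernel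

theorem inv_e : (chk 248 [mE, mE] (idN 248) (idN 248) &&
    chk 248 [mE, mE] (idN 248) (idN 248)) = true := by decide +kernel

theorem inv_s : (chk 248 [mS, mSi] (idN 248) (idN 248) &&
    chk 248 [mSi, mS] (idN 248) (idN 248)) = true := by decide +kernel

theorem inv_t : (chk 248 [mT, mTi] (idN 248) (idN 248) &&
    chk 248 [mTi, mT] (idN 248) (idN 248)) = true := by decide +kernel

theorem inv_u : (chk 248 [mU, mUi] (idN 248) (idN 248) &&
    chk 248 [mUi, mU] (idN 248) (idN 248)) = true := by decide +kernel

theorem rel_0 : chk 248 ((words.getD 0 []).map lm) (idN 248) (idN 248) = true := by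
  decide +kernel

theorem rel_1 : chk 248 ((words.getD 1 []).map lm) (idN 248) (idN 248) = true := by
  decide +kernel

theorem rel_2 : chk 248 ((words.getD 2 []).map lm) (idN 248) (idN 248) = true := by
  decide +kernel

theorem rel_3 : chk 248 ((words.getD 3 []).map lm) (idN 248) (idN 248) = true := by
  decide +kernel

theorem rel_4 : chk 248 ((words.getD 4 []).map lm) (idN 248) (idN 248) = true := by
  decide +kernel

theorem rel_5 : chk 248 ((words.getD 5 []).map lm) (idN 248) (idN 248) = true := by
  decide +kernel

theorem rel_6 : chk 248 ((words.getD 6 []).map lm) (idN 248) (idN 248) = true := by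
  decide +kernel

theorem rel_7 : chk 248 ((words.getD 7 []).map lm) (idN 248) (idN 248) = true := by
  decide +kernel

theorem rel_8 : chk 248 ((words.getD 8 []).map lm) (idN 248) (idN 248) = true := by
  decide +kernel

theorem rel_9 : chk 248 ((words.getD 9 []).map lm) (idN 248) (idN 248) = true := by
  decide +kernel

theorem rel_10 : chk 248 ((words.getD 10 []).map lm) (idN 248) (idN 248) = true := by
  decide +kernel

theorem rel_11 : chk 248 ((words.getD 11 []).map lm) (idN 248) (idN 248) = true := by
  decide +kernel

theorem rel_12 : chk 248 ((words.getD 12 []).map lm) (idN 248) (idN 248) = true := by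
  decide +kernel

theorem rel_13 : chk 248 ((words.getD 13 []).map lm) (idN 248) (idN 248) = true := by
  decide +kernel

theorem rel_14 : chk 248 ((words.getD 14 []).map lm) (idN 248) (idN 248) = true := by
  decide +kernel

theorem rel_15 : chk 248 ((words.getD 15 []).map lm) (idN 248) (idN 248) = true := by
  decide +kernel

theorem rel_16 : chk 248 ((words.getD 16 []).map lm) (idN 248) (idN 248) = true := by
  decide +kernel

theorem rel_17 : chk 248 ((words.getD 17 []).map lm) (idN 248) (idN 248) = true := by
  decide +kernel

theorem rel_18 : chk 248 ((words.getD 18 []).map lm) (idN 248) (idN 248) = true := by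
  decide +kernel

theorem rel_19 : chk 248 ((words.getD 19 []).map lm) (idN 248) (idN 248) = true := by
  decide +kernel

theorem rel_20 : chk 248 ((words.getD 20 []).map lm) (idN 248) (idN 248) = true := by
  decide +kernel

theorem rel_21 : chk 248 ((words.getD 21 []).map lm) (idN 248) (idN 248) = true := by
  decide +kernel

theorem rel_22 : chk 248 ((words.getD 22 []).map lm) (idN 248) (idN 248) = true := by
  decide +kernel

theorem rel_23 : chk 248 ((words.getD 23 []).map lm) (idN 248) (idN 248) = true := by
  decide +kernel

theorem rel_24 : chk 248 ((words.getD 24 []).map lm) (idN 248) (idN 248) = true := by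
  decide +kernel

theorem rel_25 : chk 248 ((words.getD 25 []).map lm) (idN 248) (idN 248) = true := by
  decide +kernel

theorem rel_26 : chk 248 ((words.getD 26 []).map lm) (idN 248) (idN 248) = true := by
  decide +kernel

theorem rel_27 : chk 248 ((words.getD 27 []).map lm) (idN 248) (idN 248) = true := by
  decide +kernel

theorem rel_28 : chk 248 ((words.getD 28 []).map lm) (idN 248) (idN 248) = true := by
  decide +kernel

theorem rel_29 : chk 248 ((words.getD 29 []).map lm) (idN 248) (idN 248) = true := by
  decide +kernel

theorem rel_30 : chk 248 ((words.getD 30 []).map lm) (idN 248) (idN 248) = true := by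
  decide +kernel

theorem rel_31 : chk 248 ((words.getD 31 []).map lm) (idN 248) (idN 248) = true := by
  decide +kernel

theorem rel_32 : chk 248 ((words.getD 32 []).map lm) (idN 248) (idN 248) = true := by
  decide +kernel

theorem rel_33 : chk 248 ((words.getD 33 []).map lm) (idN 248) (idN 248) = true := by
  decide +kernel

theorem rel_34 : chk 248 ((words.getD 34 []).map lm) (idN 248) (idN 248) = true := by
  decide +kernel

theorem rel_35 : chk 248 ((words.getD 35 []).map lm) (idN 248) (idN 248) = true := by
  decide +kernel

theorem rel_36 : chk 248 ((words.getD 36 []).map lm) (idN 248) (idN 248) = true := by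
  decide +kernel

theorem rel_37 : chk 248 ((words.getD 37 []).map lm) (idN 248) (idN 248) = true := by
  decide +kernel

theorem rel_38 : chk 248 ((words.getD 38 []).map lm) (idN 248) (idN 248) = true := by
  decide +kernel

end Cfsg.Agent.H32.ThRep
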