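import Mathlib

/-!
Square matrices over the field with three elements packed into natural numbers:
entry (i, j) sits in the 12-bit lane at bit 12 * (n * i + j).
The product is computed with one big multiplication per middle index; the reduction modulo 3
is certified by the identity S = Z + 3 * Q with bounded lanes.
-/

set_option autoImplicit false

namespace Cfsg.Agent.H32.ThRep

open Finset

/-- Row width in bits. -/
def wd (n : ℕ) : ℕ := 12 * n

/-- `sum (v * 2 ^ (w * i))` over `i < k`. -/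
def rep (w v : ℕ) : ℕ → ℕ
  | 0 => 0
  | k + 1 => rep w v k + v <<< (w * k)

def colMask (n : ℕ) : ℕ := rep (wd n) 4095 n

def laneMask (n v : ℕ) : ℕ := rep (wd n) (rep 12 v n) n

def colOf (n X j : ℕ) : ℕ := (X >>> (12 * j)) &&& colMask n

def rowOf (n Y j : ℕ) : ℕ := (Y >>> (wd n * j)) % 2 ^ wd n

def mulAux (n X Y : ℕ) : ℕ → ℕ
  | 0 => 0
  | j + 1 => mulAux n X Y j + colOf n X j * rowOf n Y j

def prodRaw (n X Y : ℕ) : ℕ := mulAux n X Y n

/-- One folding step, uncertified: the result is checked afterwards. -/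
def foldStep (m255 m3 x : ℕ) : ℕ := ((x >>> 2) &&& (m255 * 4 + m3)) + (x &&& m3)

def foldN (m255 m3 : ℕ) : ℕ → ℕ → ℕ
  | 0, x => x
  | k + 1, x => foldN m255 m3 k (foldStep m255 m3 x)

def red (n S : ℕ) : ℕ :=
  let x := foldN (laneMask n 255) (laneMask n 3) 8 S
  x - 3 * (x &&& (x >>> 1) &&& laneMask n 1)

def stepOK (n S Z : ℕ) : Bool :=
  let Q := (S - Z) / 3
  Nat.beq (Z + 3 * Q) S && Nat.beq (Z &&& laneMask n 3) Z && Nat.beq (Q &&& laneMask n 1023) Q

/-- Evaluate the argument before passing it on. -/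
def force {α : Type} (x : ℕ) (f : ℕ → α) : α :=
  match x with
  | 0 => f 0
  | m + 1 => f (m + 1)

theorem force_eq {α : Type} (x : ℕ) (f : ℕ → α) : force x f = f x := by
  cases x <;> rfl

/-- `acc` times the product of the list equals `out`. -/
def chk (n : ℕ) : List ℕ → ℕ → ℕ → Bool
  | [], acc, out => Nat.beq acc out
  | X :: w, acc, out =>
    force (prodRaw n acc X) fun S => force (red n S) fun Z => stepOK n S Z && chk n w Z out

def packRows (w : ℕ) : List ℕ → ℕ
  | [] => 0
  | r :: l => r + (packRows w l) <<< w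

def idN (n : ℕ) : ℕ := rep (wd n + 12) 1 n

/-- lanes small and nothing outside -/
def okMat (n X : ℕ) : Bool := Nat.beq (X &&& laneMask n 3) X

def ent (n X i j : ℕ) : ℕ := (X / (2 ^ wd n) ^ i % 2 ^ wd n) / 4096 ^ j % 4096

def mat (n X : ℕ) : Matrix (Fin n) (Fin n) (ZMod 3) := fun i j => (ent n X i j : ZMod 3)

section Digits

theorem sum_lt {b : ℕ} {f : ℕ → ℕ} (hf : ∀ i, f i < b) :
    ∀ n, ∑ i ∈ range n, f i * b ^ i < b ^ n
  | 0 => by simp
  | n + 1 => by
    have := sum_lt hf n
    have h1 := hf n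
    rw [sum_range_succ, pow_succ]
    have : (f n + 1) * b ^ n ≤ b * b ^ n := Nat.mul_le_mul_right _ h1
    nlinarith

theorem dig_sum {b : ℕ} {f : ℕ → ℕ} (hf : ∀ i, f i < b) (n k : ℕ) :
    (∑ i ∈ range n, f i * b ^ i) / b ^ k % b = if k < n then f k else 0 := by
  induction k generalizing n f with
  | zero =>
    cases n with
    | zero => simp
    | succ n =>
      rw [sum_range_succ']
      have : ∑ i ∈ range n, f (i + 1) * b ^ (i + 1) = b * ∑ i ∈ range n, f (i + 1) * b ^ i := by
        rw [mul_sum]; exact sum_congr rfl fun i _ => by ring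
      simp only [this, pow_zero, mul_one, Nat.div_one, Nat.zero_lt_succ, if_true]
      rw [Nat.mul_add_mod, Nat.mod_eq_of_lt (hf 0)]
  | succ k ih =>
    cases n with
    | zero => simp
    | succ n =>
      rw [sum_range_succ', pow_succ', ← Nat.div_div_eq_div_mul]
      have hb : 0 < b := lt_of_le_of_lt (Nat.zero_le _) (hf 0)
      have : ∑ i ∈ range n, f (i + 1) * b ^ (i + 1) = b * ∑ i ∈ range n, f (i + 1) * b ^ i := by
        rw [mul_sum]; exact sum_congr rfl fun i _ => by ring
      rw [this, pow_zero, mul_one, Nat.mul_add_div hb, Nat.div_eq_of_lt (hf 0), add_zero]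
      rw [ih (f := fun i => f (i + 1)) (fun i => hf _) n]
      simp

theorem repr_sum (b : ℕ) : ∀ n N, N < b ^ n → N = ∑ i ∈ range n, N / b ^ i % b * b ^ i
  | 0, N, h => by simp at h; simp [h]
  | n + 1, N, h => by
    have hb : 0 < b := Nat.pos_of_ne_zero (by rintro rfl; simp at h)
    have h' : N / b < b ^ n := by rw [Nat.div_lt_iff_lt_mul hb]; rwa [← pow_succ]
    have ih := repr_sum b n (N / b) h'
    rw [sum_range_succ']
    simp only [pow_zero, mul_one, Nat.div_one]
    have : ∑ i ∈ range n, N / b ^ (i + 1) % b * b ^ (i + 1) = b * (N / b) := by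
      conv_rhs => rw [ih]
      rw [mul_sum]
      refine sum_congr rfl fun i _ => ?_
      rw [Nat.div_div_eq_div_mul, ← pow_succ']; ring
    rw [this]
    exact (Nat.div_add_mod N b).symm

theorem land_dig (x y s c : ℕ) :
    (x &&& y) / 2 ^ s % 2 ^ c = (x / 2 ^ s % 2 ^ c) &&& (y / 2 ^ s % 2 ^ c) := by
  rw [Nat.and_div_two_pow, Nat.and_mod_two_pow]

theorem rep_eq (w v : ℕ) : ∀ k, rep w v k = ∑ i ∈ range k, v * (2 ^ w) ^ i
  | 0 => rfl
  | k + 1 => by rw [sum_range_succ, rep, rep_eq w v k, Nat.shiftLeft_eq, pow_mul]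

end Digits

variable {n : ℕ}

theorem four : (4096 : ℕ) = 2 ^ 12 := by norm_num

theorem pow_wd (n : ℕ) : 2 ^ wd n = 4096 ^ n := by rw [wd, pow_mul, four]

theorem ent_laneMask {v i j : ℕ} (hv : v < 4096) (hi : i < n) (hj : j < n) :
    ent n (laneMask n v) i j = v := by
  have hr : rep 12 v n < 2 ^ wd n := by
    rw [pow_wd, rep_eq, ← four]; exact sum_lt (fun _ => hv) n
  rw [ent, laneMask, rep_eq, dig_sum (fun _ => hr), if_pos hi, rep_eq, ← four,
    dig_sum (fun _ => hv), if_pos hj]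

theorem ent_land (x y i j : ℕ) : ent n (x &&& y) i j = ent n x i j &&& ent n y i j := by
  simp only [ent, four, ← pow_mul, land_dig]

theorem lt_of_land {x y N : ℕ} (h : x &&& y = x) (hy : y < N) : x < N := by
  have : x &&& y ≤ y := Nat.and_le_right
  omega

theorem laneMask_lt {v : ℕ} (hv : v < 4096) : laneMask n v < (2 ^ wd n) ^ n := by
  have hr : rep 12 v n < 2 ^ wd n := by
    rw [pow_wd, rep_eq, ← four]; exact sum_lt (fun _ => hv) n
  rw [laneMask, rep_eq]; exact sum_lt (fun _ => hr) n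

theorem ent_le_of_land {x v i j : ℕ} (hv : v < 4096) (h : x &&& laneMask n v = x)
    (hi : i < n) (hj : j < n) : ent n x i j ≤ v := by
  rw [← h, ent_land, ent_laneMask hv hi hj]; exact Nat.and_le_right

theorem eq_sum {x : ℕ} (hx : x < (2 ^ wd n) ^ n) :
    x = ∑ i ∈ range n, (∑ k ∈ range n, ent n x i k * 4096 ^ k) * (2 ^ wd n) ^ i := by
  conv_lhs => rw [repr_sum (2 ^ wd n) n x hx]
  refine sum_congr rfl fun i _ => ?_
  congr 1
  exact repr_sum 4096 n _ (by rw [← pow_wd]; exact Nat.mod_lt _ (by positivity))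

theorem ent_sum {f : ℕ → ℕ → ℕ} (hf : ∀ i k, f i k < 4096) {i k : ℕ} (hi : i < n) (hk : k < n) :
    ent n (∑ i ∈ range n, (∑ k ∈ range n, f i k * 4096 ^ k) * (2 ^ wd n) ^ i) i k = f i k := by
  rw [ent, dig_sum (fun i => (sum_lt (hf i) n).trans_le (pow_wd n).ge), if_pos hi,
    dig_sum (hf i), if_pos hk]

theorem colOf_eq {X j : ℕ} (hj : j < n) :
    colOf n X j = ∑ i ∈ range n, ent n X i j * (2 ^ wd n) ^ i := by
  have h4 : (4095 : ℕ) < 2 ^ wd n := by
    rw [pow_wd]
    have : 4096 ^ 1 ≤ 4096 ^ n := Nat.pow_le_pow_right (by norm_num) (by omega)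
    omega
  have hm : colMask n < (2 ^ wd n) ^ n := by
    rw [colMask, rep_eq]; exact sum_lt (fun _ => h4) n
  have hlt : colOf n X j < (2 ^ wd n) ^ n := lt_of_le_of_lt Nat.and_le_right hm
  conv_lhs => rw [repr_sum (2 ^ wd n) n _ hlt]
  refine sum_congr rfl fun i hi => ?_
  congr 1
  rw [colOf, ← pow_mul, land_dig, colMask, rep_eq, pow_mul, dig_sum (fun _ => h4),
    if_pos (mem_range.1 hi), Nat.shiftRight_eq_div_pow, ← pow_mul, Nat.div_div_eq_div_mul,
    ← pow_add]
  rw [show (4095 : ℕ) = 2 ^ 12 - 1 by norm_num, Nat.and_two_pow_sub_one_eq_mod,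
    Nat.mod_mod_of_dvd _ (pow_dvd_pow 2 (show 12 ≤ wd n by unfold wd; omega))]
  rw [ent, four, ← pow_mul, ← pow_mul,
    show wd n = 12 * j + (wd n - 12 * j) by unfold wd; omega, Nat.pow_add, Nat.pow_add]
  generalize hA : 2 ^ (wd n - 12 * j) = A
  rw [Nat.mod_mul_right_div_self, Nat.mod_mod_of_dvd _ (hA ▸ pow_dvd_pow 2
    (show 12 ≤ wd n - 12 * j by unfold wd; omega)), Nat.div_div_eq_div_mul]
  congr 1
  · congr 1
    ring

theorem rowOf_eq {Y j : ℕ} : rowOf n Y j = ∑ k ∈ range n, ent n Y j k * 4096 ^ k := by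
  rw [rowOf, Nat.shiftRight_eq_div_pow, pow_mul]
  exact repr_sum 4096 n _ (by rw [← pow_wd]; exact Nat.mod_lt _ (by positivity))

theorem mulAux_eq (X Y : ℕ) : ∀ m, mulAux n X Y m = ∑ j ∈ range m, colOf n X j * rowOf n Y j
  | 0 => rfl
  | m + 1 => by rw [sum_range_succ, mulAux, mulAux_eq X Y m]

theorem prodRaw_eq (X Y : ℕ) :
    prodRaw n X Y = ∑ i ∈ range n,
      (∑ k ∈ range n, (∑ j ∈ range n, ent n X i j * ent n Y j k) * 4096 ^ k) * (2 ^ wd n) ^ i := by
  rw [prodRaw, mulAux_eq]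
  simp only [sum_mul]
  rw [sum_congr rfl fun j hj => by rw [colOf_eq (mem_range.1 hj), rowOf_eq, sum_mul]]
  simp only [mul_sum]
  rw [sum_comm]
  refine sum_congr rfl fun i _ => ?_
  rw [sum_comm]
  refine sum_congr rfl fun k _ => sum_congr rfl fun j _ => ?_
  ring

theorem mat_eq_mul (hn : 9 * n < 4096) {X Y Z : ℕ} (hX : okMat n X = true) (hY : okMat n Y = true)
    (h : stepOK n (prodRaw n X Y) Z = true) :
    okMat n Z = true ∧ mat n Z = mat n X * mat n Y := by
  simp only [stepOK, Bool.and_eq_true, Nat.beq_eq] at h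
  generalize (prodRaw n X Y - Z) / 3 = Q at h
  obtain ⟨⟨hS, hZ⟩, hQ⟩ := h
  simp only [okMat, Nat.beq_eq] at hX hY ⊢
  refine ⟨hZ, ?_⟩
  have hz := lt_of_land hZ (laneMask_lt (n := n) (show 3 < 4096 by norm_num))
  have hq := lt_of_land hQ (laneMask_lt (n := n) (show 1023 < 4096 by norm_num))
  have hbound : ∀ i k, i < n → k < n → ∑ j ∈ range n, ent n X i j * ent n Y j k < 4096 := by
    intro i k hi hk
    refine lt_of_le_of_lt (sum_le_card_nsmul (range n) _ 9 fun j hj => ?_) (by simpa [mul_comm] using hn)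
    exact Nat.mul_le_mul (ent_le_of_land (by norm_num) hX hi (mem_range.1 hj))
      (ent_le_of_land (by norm_num) hY (mem_range.1 hj) hk)
  let f : ℕ → ℕ → ℕ := fun i k =>
    if i < n ∧ k < n then ∑ j ∈ range n, ent n X i j * ent n Y j k else 0
  let g : ℕ → ℕ → ℕ := fun i k => if i < n ∧ k < n then ent n Z i k + 3 * ent n Q i k else 0
  have hf : ∀ i k, f i k < 4096 := fun i k => by
    simp only [f]; split
    · exact hbound i k (by tauto) (by tauto)
    · norm_num
  have hg : ∀ i k, g i k < 4096 := fun i k => by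
    simp only [g]; split
    · rename_i hik
      have := ent_le_of_land (by norm_num) hZ hik.1 hik.2
      have := ent_le_of_land (by norm_num) hQ hik.1 hik.2
      omega
    · norm_num
  have e1 : prodRaw n X Y = ∑ i ∈ range n, (∑ k ∈ range n, f i k * 4096 ^ k) * (2 ^ wd n) ^ i := by
    rw [prodRaw_eq]
    refine sum_congr rfl fun i hi => ?_
    congr 1
    refine sum_congr rfl fun k hk => ?_
    simp [f, mem_range.1 hi, mem_range.1 hk]
  have e2 : Z + 3 * Q = ∑ i ∈ range n, (∑ k ∈ range n, g i k * 4096 ^ k) * (2 ^ wd n) ^ i := by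
    conv_lhs => rw [eq_sum hz, eq_sum hq, mul_sum, ← sum_add_distrib]
    refine sum_congr rfl fun i hi => ?_
    rw [← mul_assoc, ← add_mul, mul_sum, ← sum_add_distrib]
    congr 1
    refine sum_congr rfl fun k hk => ?_
    simp [g, mem_range.1 hi, mem_range.1 hk]
    ring
  ext i k
  have := congrArg (fun x => ent n x i k) (hS.trans e1)
  simp only [e2, ent_sum hf i.2 k.2, ent_sum hg i.2 k.2] at this
  simp only [f, g, i.2, k.2, and_self, if_true] at this
  simp only [mat, Matrix.mul_apply]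
  have h3 : ((ent n Z i k : ℕ) : ZMod 3) = ((ent n Z i k + 3 * ent n Q i k : ℕ) : ZMod 3) := by
    push_cast
    rw [show (3 : ZMod 3) = 0 from rfl, zero_mul, add_zero]
  rw [h3, this]
  push_cast
  rw [Finset.sum_range]

theorem chk_sound (hn : 9 * n < 4096) :
    ∀ {w : List ℕ} {acc out : ℕ}, (∀ X ∈ w, okMat n X = true) → okMat n acc = true →
      chk n w acc out = true → mat n acc * (w.map (mat n)).prod = mat n out
  | [], acc, out, _, _, h => by
    simp only [chk, Nat.beq_eq] at h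
    simp [h]
  | X :: w, acc, out, hw, ha, h => by
    simp only [chk, force_eq, Bool.and_eq_true] at h
    obtain ⟨hok, hm⟩ := mat_eq_mul hn ha (hw X (by simp)) h.1
    have := chk_sound hn (fun Y hY => hw Y (by simp [hY])) hok h.2
    rw [hm, mul_assoc] at this
    simpa using this

theorem mat_idN : mat n (idN n) = 1 := by
  have e : idN n = ∑ i ∈ range n, (∑ k ∈ range n, (if k = i then 1 else 0) * 4096 ^ k)
      * (2 ^ wd n) ^ i := by
    rw [idN, rep_eq]
    refine sum_congr rfl fun i hi => ?_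
    rw [sum_eq_single i (fun k _ hk => by simp [hk]) (fun h => absurd hi h), if_pos rfl,
      Nat.pow_add, mul_pow, ← four, one_mul, one_mul, mul_comm]
  ext i k
  rw [mat, e, ent_sum (fun i k => by split <;> norm_num) i.2 k.2]
  by_cases h : i = k
  · simp [h, Matrix.one_apply]
  · simp [h, Fin.val_inj, Ne.symm h]

end Cfsg.Agent.H32.ThRep
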