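import Cfsg.Agent.H32.ThRep.Check

/-!
The presented Thompson group maps to the general linear group of dimension 248 over the field
with three elements.
-/

set_option autoImplicit false

namespace Cfsg.Agent.H32.ThRep

open Cfsg.Spor

attribute [local irreducible] mA mB mC mD mE mS mT mU mSi mTi mUi chk okMat idN

theorem okMat_lm (l : Th.Gen × Bool) : okMat 248 (lm l) = true := by
  have ha := ok_a
  have hb := ok_b
  simp only [Bool.and_eq_true] at ha hb
  obtain ⟨g, b⟩ := l
  cases g <;> cases b <;> simp only [lm, gm, gi] <;>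
    first
    | exact ok_si
    | exact ok_ti
    | exact ok_ui
    | exact ha.1.1.1
    | exact ha.1.1.2
    | exact ha.1.2
    | exact ha.2
    | exact hb.1.1.1
    | exact hb.1.1.2
    | exact hb.1.2
    | exact hb.2

theorem chk_word {w : List (Th.Gen × Bool)}
    (h : chk 248 (w.map lm) (idN 248) (idN 248) = true) :
    (w.map fun l => mat 248 (lm l)).prod = 1 := by
  have := chk_sound (n := 248) (by norm_num) (w := w.map lm)
    (fun X hX => by
      obtain ⟨l, -, rfl⟩ := List.mem_map.1 hX
      exact okMat_lm l) ok_id h
  rw [mat_idN, one_mul, List.map_map] at this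
  exact this

theorem inv_pair (g : Th.Gen) :
    chk 248 [gm g, gi g] (idN 248) (idN 248) = true ∧
      chk 248 [gi g, gm g] (idN 248) (idN 248) = true := by
  cases g
  · simpa only [gm, gi, Bool.and_eq_true] using inv_a
  · simpa only [gm, gi, Bool.and_eq_true] using inv_b
  · simpa only [gm, gi, Bool.and_eq_true] using inv_c
  · simpa only [gm, gi, Bool.and_eq_true] using inv_d
  · simpa only [gm, gi, Bool.and_eq_true] using inv_e
  · simpa only [gm, gi, Bool.and_eq_true] using inv_s
  · simpa only [gm, gi, Bool.and_eq_true] using inv_t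
  · simpa only [gm, gi, Bool.and_eq_true] using inv_u

/-- The image of a generator. -/
def gen (g : Th.Gen) : GL (Fin 248) (ZMod 3) where
  val := mat 248 (gm g)
  inv := mat 248 (gi g)
  val_inv := by simpa [lm] using chk_word (w := [(g, true), (g, false)]) (inv_pair g).1
  inv_val := by simpa [lm] using chk_word (w := [(g, false), (g, true)]) (inv_pair g).2

theorem val_letter (l : Th.Gen × Bool) :
    ((cond l.2 (gen l.1) (gen l.1)⁻¹ : GL (Fin 248) (ZMod 3)) :
      Matrix (Fin 248) (Fin 248) (ZMod 3)) = mat 248 (lm l) := by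
  obtain ⟨g, b⟩ := l
  cases b <;> rfl

theorem chk_words : ∀ w ∈ words, chk 248 (w.map lm) (idN 248) (idN 248) = true := by
  intro w hw
  obtain ⟨i, hi, rfl⟩ := List.mem_iff_getElem.1 hw
  have hn : words.length = 39 := rfl
  rw [← List.getD_eq_getElem (d := []) _ hi]
  rw [hn] at hi
  interval_cases i
  · exact rel_0
  · exact rel_1
  · exact rel_2
  · exact rel_3
  · exact rel_4
  · exact rel_5
  · exact rel_6
  · exact rel_7
  · exact rel_8
  · exact rel_9
  · exact rel_10
  · exact rel_11
  · exact rel_12
  · exact rel_13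
  · exact rel_14
  · exact rel_15
  · exact rel_16
  · exact rel_17
  · exact rel_18
  · exact rel_19
  · exact rel_20
  · exact rel_21
  · exact rel_22
  · exact rel_23
  · exact rel_24
  · exact rel_25
  · exact rel_26
  · exact rel_27
  · exact rel_28
  · exact rel_29
  · exact rel_30
  · exact rel_31
  · exact rel_32
  · exact rel_33
  · exact rel_34
  · exact rel_35
  · exact rel_36
  · exact rel_37
  · exact rel_38

theorem lift_word {w : List (Th.Gen × Bool)}
    (h : chk 248 (w.map lm) (idN 248) (idN 248) = true) :
    FreeGroup.lift gen (FreeGroup.mk w) = 1 := by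
  apply Units.ext
  rw [FreeGroup.lift_mk, Units.val_one, ← chk_word h, ← Units.coeHom_apply, map_list_prod,
    List.map_map]
  congr 1
  exact List.map_congr_left fun l _ => val_letter l

theorem relators (r : FreeGroup Th.Gen)
    (hr : r ∈ coxRelators Th.edges ∪ {r | r ∈ Th.extra}) : FreeGroup.lift gen r = 1 := by
  rcases hr with hr | hr
  · obtain ⟨x, hx, -⟩ := hr
    simp [coxNodes, Th.edges] at hx
  · simp only [Set.mem_ofPred_eq, extra_eq, List.mem_map] at hr
    obtain ⟨w, hw, rfl⟩ := hr
    exact lift_word (chk_words w hw)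

/-- The representation. -/
def rep248 : Th →* GL (Fin 248) (ZMod 3) := PresentedGroup.toGroup relators

theorem rep248_of (g : Th.Gen) :
    (rep248 (PresentedGroup.of g) : Matrix (Fin 248) (Fin 248) (ZMod 3)) = mat 248 (gm g) := by
  rw [rep248, PresentedGroup.toGroup.of]
  rfl

end Cfsg.Agent.H32.ThRep
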