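import Cfsg.Agent.H32.ThRep.Words
import Cfsg.Agent.H32.ThRep.DataA
import Cfsg.Agent.H32.ThRep.DataB
import Cfsg.Agent.H32.ThRep.DataC
import Cfsg.Agent.H32.ThRep.DataD
import Cfsg.Agent.H32.ThRep.DataE
import Cfsg.Agent.H32.ThRep.DataS
import Cfsg.Agent.H32.ThRep.DataT
import Cfsg.Agent.H32.ThRep.DataU

/-!
The matrix attached to a letter.
-/

set_option autoImplicit false

namespace Cfsg.Agent.H32.ThRep

open Cfsg.Spor

/-- Product, reduced. -/
def mulV (X Y : ℕ) : ℕ := red 248 (prodRaw 248 X Y)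

def mSi : ℕ := mulV (mulV (mulV mS mS) (mulV mS mS)) (mulV mS mS)
def mTi : ℕ := mulV mT mT
def mUi : ℕ := mulV mU (mulV mA mC)

/-- The matrix of a generator. -/
def gm : Th.Gen → ℕ
  | .a => mA
  | .b => mB
  | .c => mC
  | .d => mD
  | .e => mE
  | .s => mS
  | .t => mT
  | .u => mU

/-- The matrix of the inverse of a generator. -/
def gi : Th.Gen → ℕ
  | .a => mA
  | .b => mB
  | .c => mC
  | .d => mD
  | .e => mE
  | .s => mSi
  | .t => mTi
  | .u => mUi

/-- The matrix of a letter. -/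
def lm : Th.Gen × Bool → ℕ
  | (g, true) => gm g
  | (g, false) => gi g

end Cfsg.Agent.H32.ThRep
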