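import Cfsg.Prelude.Def_Spor_Th

/-!
Generated data: the relators of the presented Thompson group as literal words.
-/

set_option autoImplicit false

namespace Cfsg.Agent.H32.ThRep

open Cfsg.Spor

/-- The relators as literal words. -/
def words : List (List (Th.Gen × Bool)) := [
  [(.a, true), (.a, true)],
  [(.b, true), (.b, true)],
  [(.c, true), (.c, true)],
  [(.d, true), (.d, true)],
  [(.e, true), (.e, true)],
  [(.a, true), (.b, true), (.a, true), (.b, true), (.a, true), (.b, true)],
  [(.a, true), (.e, true), (.a, true), (.e, true)],
  [(.b, true), (.c, true), (.b, true), (.c, true), (.b, true), (.c, true)],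
  [(.b, true), (.d, true), (.b, true), (.d, true)],
  [(.b, true), (.e, true), (.b, true), (.e, true)],
  [(.a, true), (.d, false), (.c, false), (.d, false), (.c, false), (.d, false), (.c, false), (.d, false), (.c, false)],
  [(.c, true), (.e, true), (.c, true), (.e, true)],
  [(.d, true), (.e, true), (.d, true), (.e, true), (.d, true), (.e, true)],
  [(.b, true), (.c, true), (.d, true), (.e, true), (.b, true), (.c, true), (.d, true), (.e, true), (.b, true), (.c, true), (.d, true), (.e, true), (.b, true), (.c, true), (.d, true), (.e, true), (.b, true), (.c, true), (.d, true), (.e, true), (.b, true), (.c, true), (.d, true), (.e, true), (.b, true), (.c, true), (.d, true), (.e, true), (.b, true), (.c, true), (.d, true), (.e, true)],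
  [(.s, true), (.s, true), (.s, true), (.s, true), (.s, true), (.s, true), (.s, true)],
  [(.s, false), (.a, false), (.s, true), (.a, true)],
  [(.s, false), (.b, false), (.s, true), (.b, true)],
  [(.s, false), (.c, false), (.s, true), (.c, true)],
  [(.s, true), (.d, true), (.s, true), (.d, true)],
  [(.e, false), (.s, false), (.e, true), (.s, true), (.s, false), (.s, false), (.s, false), (.e, false), (.s, true), (.s, true), (.s, true)],
  [(.t, true), (.t, true), (.t, true)],
  [(.t, false), (.a, false), (.t, true), (.a, true)],
  [(.t, false), (.b, false), (.t, true), (.b, true)],
  [(.t, false), (.c, false), (.t, true), (.c, true)],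
  [(.t, false), (.d, false), (.t, true), (.d, true)],
  [(.t, false), (.e, false), (.t, true), (.e, true)],
  [(.t, false), (.s, true), (.t, true), (.s, false), (.s, false)],
  [(.u, true), (.u, true), (.c, false), (.a, false)],
  [(.u, false), (.a, false), (.u, true), (.a, true)],
  [(.u, false), (.c, false), (.u, true), (.c, true)],
  [(.u, false), (.e, false), (.u, true), (.e, true)],
  [(.d, true), (.e, true), (.u, false), (.d, true), (.u, true), (.d, true), (.e, true), (.u, false), (.d, true), (.u, true)],
  [(.u, false), (.b, false), (.c, false), (.a, false), (.b, true), (.u, true), (.b, false), (.a, true), (.c, true), (.b, true), (.e, false)],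
  [(.d, false), (.u, false), (.d, true), (.b, false), (.c, false), (.a, false), (.b, true), (.d, false), (.u, true), (.d, true), (.b, false), (.a, true), (.c, true), (.b, true), (.c, false), (.e, false), (.d, false), (.u, false), (.d, true), (.b, false), (.c, false), (.a, false), (.b, true), (.e, false), (.u, false)],
  [(.u, false), (.t, true), (.u, true), (.t, true)],
  [(.e, false), (.s, false), (.s, false), (.u, false), (.s, true), (.s, true), (.e, true), (.s, false), (.s, false), (.u, true), (.s, true), (.s, true)],
  [(.a, true), (.c, true), (.s, false), (.u, false), (.s, false), (.u, false), (.s, false), (.u, false)],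
  [(.a, true), (.c, true), (.s, false), (.u, false), (.s, true), (.u, true), (.s, false), (.u, false), (.s, true), (.u, true), (.s, false), (.u, false), (.s, true), (.u, true), (.s, false), (.u, false), (.s, true), (.u, true)],
  [(.d, true), (.s, false), (.s, false), (.u, true), (.s, true), (.s, true), (.d, true), (.s, false), (.s, false), (.u, true), (.s, true), (.s, true), (.d, true), (.s, false), (.s, false), (.u, true), (.s, true), (.s, true), (.d, true), (.s, false), (.s, false), (.u, true), (.s, true), (.s, true), (.s, false), (.s, false), (.e, false), (.d, false), (.c, false), (.d, true), (.e, true), (.s, true), (.s, true), (.s, true), (.e, false), (.d, false), (.c, false), (.d, true), (.e, true), (.s, false), (.d, false), (.c, false), (.d, true), (.c, false), (.a, false)]]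

theorem extra_eq : Th.extra = words.map FreeGroup.mk := rfl

end Cfsg.Agent.H32.ThRep
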